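import Cfsg.Agent.OM.Sp.C5.Tool
import Cfsg.Agent.BZ.C6.RA
import Cfsg.Agent.KM.Sp.Main
import Cfsg.Agent.BMx.Loc5

/-!
# OM (S4894), the rows of `2.B` for `p = 3, 5` (helper96)
-/

set_option autoImplicit false
set_option maxRecDepth 100000
set_option maxHeartbeats 400000

namespace Cfsg.Agent.OM.C5

open Cfsg Subgroup Cfsg.Agent.BHZ.Spor Cfsg.Agent.OM.Lo Cfsg.Agent.BZ.T Cfsg.Agent.TAB Cfsg.Agent.TAB.Eng
open Cfsg.Agent.TAB.Use Cfsg.Agent.PQ.Spor Cfsg.Agent.KM.Sp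

theorem cb3 : ∀ t < B.Fin.datF.n, B.Fin.datF.ord t = 3 → lbB B.Fin.datF B.Fin.tabB [] 5 6 t 1 (List.range 166) = true := by
  decide +kernel

theorem cb5 : ∀ t < B.Fin.datF.n, B.Fin.datF.ord t = 5 → lbB B.Fin.datF B.Fin.tabB [] 3 13 t 1 (List.range 166) = true ∨
    (cbg B.Fin.datF B.Fin.tabB [] t (List.range 166) = 8000000 * 3 ∧ B.Fin.datF.cnt t * 6000000 = B.Fin.datF.N) := by
  decide +kernel

theorem three_dvd {S : Type} [Group S] [Finite S] (h : Spor.IsoB S) {y : S} (hy : orderOf y = 5) :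
    3 ∣ Nat.card (centralizer ({y} : Set S)) := by
  have := Fact.mk Nat.prime_three
  obtain ⟨e⟩ := id h
  obtain ⟨T, hm, hT⟩ := tB.pull e
  rcases cb5 _ (T.lt y) (T.ord y ▸ hy) with h1 | ⟨h1, h2⟩
  · exact prime_dvd_cent (Hy.nil hm hT) rfl 13 _ h1
  by_contra h3
  have h4 := card_dvd_cbg (Hy.nil hm hT) y (List.range 166)
  have h5 := le_cnt hm y
  have h6 := BMx.Loc5.five_cases h hy
  rw [← h2] at h5
  replace h5 := Nat.le_of_mul_le_mul_left h5 (cnt_pos hm y)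
  rw [h1] at h4
  obtain ⟨k, hk⟩ := ((Nat.prime_three.coprime_iff_not_dvd.2 h3).symm).dvd_of_dvd_mul_right h4
  generalize Nat.card (centralizer ({y} : Set S)) = c at *
  obtain rfl : c = 8000000 := by
    rcases k with _ | _ | k
    · omega
    · omega
    · nlinarith
  revert h6
  decide

theorem b_2_3 : ∀ (S : Type) [Group S] [Finite S], Spor.IsoB S → Cov 2 3 S := fun S _ _ h X _ _ σ M Γ b D H hc hd => by
  have := Fact.mk Nat.prime_three
  have := Fact.mk Nat.prime_five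
  obtain ⟨e⟩ := id h
  obtain ⟨T, hm, hT⟩ := tB.pull e
  refine (con_deep H (nab H (b_3 h) hd) Nat.prime_five (by decide) (by rw [hc]; decide) fun y hy h1 => ⟨?_,
    prime_dvd_cent (Hy.nil hm hT) rfl 6 _ (cb3 _ (T.lt y) (T.ord y ▸ hy))⟩).elim
  by_cases h7 : 7 ∣ Nat.card ↥(centralizer ({y} : Set S))
  · obtain ⟨F⟩ := H604.RB.Three.frame_of_seven h hy h7
    refine (not_deep_of_fiFrame (fun h0 => ?_) F h1).elim
    rw [h0, orderOf_one] at hy
    norm_num at hy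
  · exact constr_of_qframe hy (H604.RB.ThreeB.qframe_three h hy h7)

theorem b_2_5 : ∀ (S : Type) [Group S] [Finite S], Spor.IsoB S → Cov 2 5 S := fun S _ _ h X _ _ σ M Γ b D H hc hd => by
  have := Fact.mk Nat.prime_five
  obtain ⟨e⟩ := id h
  exact (con_deep H (nab H (okB_5.nt (tB.pull e) Nat.prime_five) hd) Nat.prime_three (by decide) (by rw [hc]; decide)
    fun y hy h1 => ⟨BZ.C6.deep5 h hy h1, three_dvd h hy⟩).elim

end Cfsg.Agent.OM.C5
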