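import Cfsg.Agent.OM.Sp.C5.Fi
import Cfsg.Agent.OM.Sp.C5.B35
import Cfsg.Agent.OM.Sp.C5.B7

/-!
# OM (S4894), the rows of `3.Fi₂₄'` and `2.B` (helper96)

`OM.C5.fi24_3_2`, `fi24_3_7`, `b_2_3`, `b_2_5`, `b_2_7_of`.
-/
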