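import Cfsg.Agent.OM.Sp.C5.Tool
import Cfsg.Agent.BZ.C7.Main
import Cfsg.Agent.KM.Sp.Main
import Cfsg.Agent.CTwoTab.FiTF

/-!
# OM (S4894), the rows of `3.Fi₂₄'` (helper96)

`big` follows the proof of `BZ.C7.small`.
-/

set_option autoImplicit false
set_option maxRecDepth 100000
set_option maxHeartbeats 400000

namespace Cfsg.Agent.OM.C5

open Cfsg Subgroup Cfsg.Agent.BHZ.Spor Cfsg.Agent.OM.Lo Cfsg.Agent.BZ.T Cfsg.Agent.TAB Cfsg.Agent.TAB.Eng
open Cfsg.Agent.TAB.Use Cfsg.Agent.PQ.Spor Cfsg.Agent.KM.Sp Cfsg.Agent.BZ.C7 Cfsg.Agent.Blocks.Basic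
open Cfsg.Agent.Blocks.Local

/-- no faithful `2`-block has a defect between `5` and `12` -/
theorem big {M : Ideal AlgInt} {K : Type} [Group K] [Finite K] {B : Set (IrrCharacter K)} {D : Subgroup K}
    {σ : K →* Spor.Fi24'} (H : BZ.Hyp 2 M B D σ) (hc : Nat.card (center K) = 3) (h1 : 2 ^ 5 ∣ Nat.card D) :
    2 ^ 13 ∣ Nat.card D := by
  classical
  by_contra h
  have := isPrime_of_isPModular H.hM
  obtain ⟨d⟩ := exists_dt H hc
  have := Fintype.ofFinite K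
  rw [S0908.result 2 M H.hM B H.hB D H.hD, Nat.pow_dvd_pow_iff_le_right (by norm_num)] at h h1
  obtain ⟨Y, hY, h2, h4, -, h5⟩ := k0 H.hM H.hB (le_trans (by norm_num) h1)
  have h6 : (Nat.card K).factorization 2 = 21 := by
    have h0 : Nat.card K ≠ 0 := Nat.card_pos.ne'
    have h6 := (Nat.prime_two.pow_dvd_iff_le_factorization (k := 21) h0).1 (by rw [d.mass.1]; decide)
    have h7 := (Nat.prime_two.pow_dvd_iff_le_factorization (k := 22) h0).not.1 (by rw [d.mass.1]; decide)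
    omega
  have h7 : ∀ χ ∈ B, (χ : K → ℂ) d.z ≠ (χ : K → ℂ) 1 := fun χ hχ e => by
    have h7 := d.ord
    rw [H.faith χ hχ _ d.cen e, orderOf_one] at h7
    omega
  have h9 : ∀ χ : IrrCharacter K, ∃ j, χ ∈ Y → j ∈ JJ ∧ ¬ 2 ^ 17 ∣ bb j ∧
      ∀ k < 66, d.a χ k = if k = j then 1 else 0 := fun χ => by
    by_cases hχ : χ ∈ Y
    · have h9 := h5 χ hχ
      have h0 := (charDegree_pos χ.2).ne'
      obtain ⟨j, hj⟩ := d.lab (h7 χ ((hY χ).1 hχ).1) ((Nat.prime_two.pow_dvd_iff_le_factorization h0).2 (by omega))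
        ((Nat.prime_two.pow_dvd_iff_le_factorization h0).not.2 (by omega))
      refine ⟨j, fun _ => ⟨hj.1, fun e => ?_, hj.2.2⟩⟩
      rw [← hj.2.1] at e
      exact (Nat.prime_two.pow_dvd_iff_le_factorization (k := 17) h0).not.2 (by omega) (by exact_mod_cast e)
    · exact ⟨0, fun e => absurd e hχ⟩
  choose lab hl using h9
  have h10 : Set.InjOn lab Y := fun χ hχ ψ hψ e =>
    d.inj (h7 χ ((hY χ).1 hχ).1) (h7 ψ ((hY ψ).1 hψ).1) (H.ce.ov H.hM χ.2 ψ.2
      (isPBlock_sameBlock H.hB ((hY χ).1 hχ).1 ((hY ψ).1 hψ).1) _ (H.ker ▸ d.cen)) (hl χ hχ).1 (hl χ hχ).2.2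
      (e ▸ (hl ψ hψ).2.2)
  have h11 := Finset.card_le_card_of_injOn (t := JJ.filter fun j => ¬ 2 ^ 17 ∣ bb j) lab (fun χ hχ => Finset.mem_filter.2
    ⟨(hl χ hχ).1, (hl χ hχ).2.1⟩) h10
  have h12 := Nat.le_of_dvd h2 h4
  have h13 : (JJ.filter fun j => ¬ 2 ^ 17 ∣ bb j).card ≤ 3 := by decide +kernel
  omega

/-- the local data -/
theorem fi_loc : NoA 2 5 Spor.Fi24' ∧ (∀ y : Spor.Fi24', orderOf y = 2 → 5 ∣ Nat.card (centralizer ({y} : Set Spor.Fi24'))) ∧
    ∃ y : Spor.Fi24', orderOf y = 7 ∧ Nat.card (centralizer ({y} : Set Spor.Fi24')) = 2058 := by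
  have := Fact.mk Nat.prime_two
  obtain ⟨X, _, _, ⟨C⟩⟩ := F24C.inF24
  have := C.mn.finite
  have H : ∀ g : Spor.Fi24', F24.kind.getD (C.T'.ty g) 0 = 0 →
      F24.DT.cnt (C.T'.ty g) * Nat.card (centralizer ({g} : Set Spor.Fi24')) = F24.DT.N := fun g h =>
    card_of_one C.mass' fun x hx => C.one _ (C.T'.lt g) h g x rfl hx
  refine ⟨okFi24_2.noA0 (Hy.of_one C.mass' C.mn.tab _
    (fun e he => C.one _ ((by decide +kernel : ∀ e ∈ [(4, 14285134080), (43, 3888)], e.1 < 94 ∧ F24.kind.getD e.1 0 = 0) e he).1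
      ((by decide +kernel : ∀ e ∈ [(4, 14285134080), (43, 3888)], e.1 < 94 ∧ F24.kind.getD e.1 0 = 0) e he).2)
    (by decide +kernel)), fun y hy => ?_, ?_⟩
  · obtain ⟨h1, h2, h3⟩ := (by decide +kernel : ∀ t < F24.DT.n, F24.DT.ord t = 2 → F24.kind.getD t 0 = 0 ∧
      0 < F24.DT.cnt t ∧ F24.DT.cnt t * 5 ∣ F24.DT.N) _ (C.T'.lt y) (C.T'.ord y ▸ hy)
    rw [← H y h1] at h3
    exact Nat.dvd_of_mul_dvd_mul_left h2 h3
  · obtain ⟨y, hy⟩ := inh_of_mass C.mass' F24.cnt_pos 24 (by decide)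
    have h1 := H y (by rw [hy]; rfl)
    rw [hy] at h1
    exact ⟨y, by rw [C.T'.ord, hy]; rfl, Nat.eq_of_mul_eq_mul_left (F24.cnt_pos 24 (by decide))
      (h1.trans (by decide +kernel))⟩

theorem fi24_3_2 : ∀ (S : Type) [Group S] [Finite S], Spor.IsoFi24' S → Cov 3 2 S := fun _ _ _ ⟨e⟩ =>
  Cov.of_equiv e fun X _ _ σ M Γ b D H hc hd => by
    have := Fact.mk Nat.prime_two
    have := Finite.of_surjective σ H.surj
    have h2 : IsPGroup 2 CTwoTab.FiTF.R0 := IsPGroup.of_card CTwoTab.FiTF.R0_card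
    have h3 : orderOf CTwoTab.FiTF.z0 = 2 := orderOf_eq_prime (Subtype.ext ((pow_two _).trans KFacts.FiTF.frame.zz))
      fun h => KFacts.FiTF.frame.z1 (congrArg Subtype.val h)
    exact (con_syl H ((cex H).rt_of_reg reg.2.1 (big (bz H (nab H fi_loc.1 hd)) hc hd)) h3
      ⟨_, h2, fun x hx => CTwoTab.FiTF.R0_norm x (mem_centralizer_singleton_iff.2 hx.symm),
        reg.2.1.rt CTwoTab.FiTF.R0_card.symm.dvd⟩ Nat.prime_five (by decide) (by rw [hc]; decide) (fi_loc.2.1 _ h3)).elim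

theorem fi24_3_7 : ∀ (S : Type) [Group S] [Finite S], Spor.IsoFi24' S → Cov 3 7 S := fun _ _ _ ⟨e⟩ =>
  Cov.of_equiv e fun X _ _ σ M Γ b D H hc hd => by
    have : Fact (Nat.Prime 7) := ⟨by norm_num⟩
    have := Finite.of_surjective σ H.surj
    obtain ⟨y, h1, h2⟩ := fi_loc.2.2
    obtain ⟨P⟩ : Nonempty (Sylow 7 (centralizer ({y} : Set Spor.Fi24'))) := inferInstance
    have h3 : Nat.card P = 343 := by
      rw [P.card_eq_multiplicity, h2]
      decide +kernel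
    have h4 : (P : Subgroup (centralizer ({y} : Set Spor.Fi24'))).index = 6 := by
      have h4 := (P : Subgroup (centralizer ({y} : Set Spor.Fi24'))).card_mul_index
      rw [h2, show Nat.card (P : Subgroup (centralizer ({y} : Set Spor.Fi24'))) = 343 from h3] at h4
      omega
    have h5 := card_sylow_modEq_one 7 (centralizer ({y} : Set Spor.Fi24'))
    have h6 := P.card_dvd_index
    rw [h4] at h6
    have h7 : Nat.card (Sylow 7 (centralizer ({y} : Set Spor.Fi24'))) = 1 := by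
      have h7 := Nat.le_of_dvd (by norm_num) h6
      unfold Nat.ModEq at h5
      omega
    have := (Nat.card_eq_one_iff_unique.1 h7).1
    have h8 := P.normal_of_subsingleton
    refine (con_syl H ((cex H).rt_of_reg reg.2.2 hd) h1 ⟨_, P.2.map (Subgroup.subtype _), ?_,
      reg.2.2.rt ?_⟩ Nat.prime_two (by decide) (by rw [hc]; decide) (by rw [h2]; decide)).elim
    · rintro x hx _ ⟨u, hu, rfl⟩
      exact ⟨_, h8.conj_mem u hu ⟨x, mem_centralizer_singleton_iff.2 hx.symm⟩, rfl⟩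
    · rw [card_map_of_injective (subtype_injective _)]
      exact h3 ▸ (by decide)

end Cfsg.Agent.OM.C5
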