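import Cfsg.Agent.OM.Cov
import Cfsg.Agent.OM.Lo.Loc
import Cfsg.Agent.OM.Lo.Idx
import Cfsg.Agent.KM.Sp.Loc
import Cfsg.Agent.BZ.T.Loc
import Cfsg.Agent.BHZ.Spor.Tools

/-!
# OM (S4894), tools for the rows of covers (helper96)

* `bz`, `nab` : the passage to the hypothesis of the `BZ` rows;
* `con`, `con_deep`, `con_syl` : a constrained element whose centraliser contains an element of prime order `r`.
-/

set_option autoImplicit false
set_option linter.unusedSectionVars false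

namespace Cfsg.Agent.OM.C5

open Cfsg Subgroup Cfsg.Agent.BHZ.Spor Cfsg.Agent.OM.Lo Cfsg.Agent.BZ.T
open scoped commutatorElement

variable {p : ℕ} [hp : Fact p.Prime] {M : Ideal AlgInt} {X : Type} [Group X] [Finite X] {Γ : Subgroup (MulAut X)}
  {b : Set (IrrCharacter X)} {D : Subgroup X} {S : Type} [Group S] {σ : X →* S}

theorem cex (H : Hyp p M Γ b D σ) : Ce p σ := ⟨H.surj, H.ker.le, H.ker ▸ H.sit.ndvd⟩

theorem bz (H : Hyp p M Γ b D σ) (h : ¬ IsMulCommutative D) : BZ.Hyp p M b D σ :=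
  ⟨H.hM, H.hb, H.hD, h, H.sit.qs, H.surj, H.ker, H.sit.ndvd, H.sit.cyc, H.faith⟩

theorem locB (H : Hyp p M Γ b D σ) : LocB p (D.map σ) := (locB_of_block H.hM H.hb H.hD).quot σ H.surj H.ker.le

theorem nab (H : Hyp p M Γ b D σ) {d : ℕ} (h : KM.Sp.NoA p d S) (hd : p ^ d ∣ Nat.card D) : ¬ IsMulCommutative D :=
  fun hab => h _ ((KM.Sp.locA_of_block H.hM H.hb H.hD hab).quot σ H.surj H.ker.le) ((cex H).dvd_map hd)

/-- **a constrained element of the defect group** -/
theorem con (H : Hyp p M Γ b D σ) {y : S} (hy : y ∈ D.map σ) (h1 : y ≠ 1) (hc : Constr p y) {r : ℕ} (hr : r.Prime)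
    (hrp : r ≠ p) (hz : ¬ r ∣ Nat.card (center X)) (hd : r ∣ Nat.card (centralizer ({y} : Set S))) : False := by
  have := Finite.of_surjective σ H.surj
  have : Fact r.Prime := ⟨hr⟩
  obtain ⟨u, hu, rfl⟩ := hy
  obtain ⟨w, hw⟩ := exists_prime_orderOf_dvd_card' r hd
  have hw' : orderOf (w : S) = r := (orderOf_coe w).trans hw
  obtain ⟨x, hx, k, hk⟩ := exists_p_lift (p := r) H.surj (x := (w : S)) (k := 1) (by rw [pow_one, ← hw', pow_orderOf_eq_one])
  obtain ⟨j, hj⟩ := pelt_of_mem H.pg hu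
  have h2 : orderOf x ∣ r ^ k := orderOf_dvd_of_pow_eq_one hk
  have h3 : ¬ p ∣ orderOf x := fun h =>
    hrp ((Nat.prime_dvd_prime_iff_eq hp.out hr).1 (hp.out.dvd_of_dvd_pow (h.trans h2))).symm
  refine boxCon p M X Γ b D S σ H u hu (fun e => h1 (by rw [e, map_one])) hc x
    (commute_p_reg H.ker.le (by rw [hx]; exact (mem_centralizer_singleton_iff.1 w.2).symm) hj h3) h3 (fun h => ?_)
    (gd_of_coprime Γ (Nat.Coprime.of_dvd_left h2 ((hr.coprime_iff_not_dvd.2 hz).pow_left k)))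
  rw [← H.ker, MonoidHom.mem_ker, hx] at h
  rw [h, orderOf_one] at hw'
  exact hr.one_lt.ne hw'

/-- non-abelian defect groups -/
theorem con_deep (H : Hyp p M Γ b D σ) (hn : ¬ IsMulCommutative D) {r : ℕ} (hr : r.Prime) (hrp : r ≠ p)
    (hz : ¬ r ∣ Nat.card (center X))
    (h : ∀ y : S, orderOf y = p → y ∈ ⁅centralizer ({y} : Set S), centralizer ({y} : Set S)⁆ →
      Constr p y ∧ r ∣ Nat.card (centralizer ({y} : Set S))) : False := by
  have := Finite.of_surjective σ H.surj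
  obtain ⟨y, hy, hyp, hyD⟩ := exists_deep (H.pg.map σ) (bz H hn).nab_map
  have hle : D.map σ ≤ centralizer ({y} : Set S) := fun d hd => mem_centralizer_singleton_iff.2 (hyD d hd).symm
  obtain ⟨h1, h2⟩ := h y hyp (commutator_mono hle hle hy)
  refine con H (commutator_le.2 (fun a ha c hc => ?_) hy) (fun e => ?_) h1 hr hrp hz h2
  · rw [commutatorElement_def]
    exact mul_mem (mul_mem (mul_mem ha hc) (inv_mem ha)) (inv_mem hc)
  · rw [e, orderOf_one] at hyp
    exact hp.out.one_lt.ne hyp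

/-- the defect group is a Sylow subgroup -/
theorem con_syl (H : Hyp p M Γ b D σ) (hrt : RegTriv p (D.map σ)) {y : S} (hy : orderOf y = p) (hc : Constr p y) {r : ℕ}
    (hr : r.Prime) (hrp : r ≠ p) (hz : ¬ r ∣ Nat.card (center X)) (hd : r ∣ Nat.card (centralizer ({y} : Set S))) :
    False := by
  have := Finite.of_surjective σ H.surj
  obtain ⟨P, hP⟩ := (H.pg.map σ).exists_le_sylow
  obtain ⟨Q, hQ⟩ := (IsPGroup.of_card (n := 1) (by rw [Nat.card_zpowers, hy, pow_one]) :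
    IsPGroup p (zpowers y)).exists_le_sylow
  obtain ⟨g, rfl⟩ := MulAction.exists_smul_eq S Q P
  have h1 : IsConj y (g * y * g⁻¹) := isConj_iff.2 ⟨g, rfl⟩
  refine con H (y := g * y * g⁻¹) ((locB H).syl_of_rt hrt _ (g • Q).2 hP ⟨y, hQ (mem_zpowers y), rfl⟩) (fun e => ?_)
    (hc.conj h1) hr hrp hz (card_cent_of_conj h1 ▸ hd)
  rw [e, isConj_one_left] at h1
  rw [h1, orderOf_one] at hy
  exact hp.out.one_lt.ne hy

end Cfsg.Agent.OM.C5
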